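import Groth.Agent.FlatMisc.Fibrewise
import Groth.Agent.S4112
import Groth.Prelude.Def_Red

/-!
# Multiplication by an invertible integer on a smooth commutative group scheme is étale
-/

set_option autoImplicit false

universe u

open CategoryTheory Limits AlgebraicGeometry MonoidalCategory CartesianMonoidalCategory MonObj

namespace Groth.Agent.NTors

variable {S : Scheme.{u}} {G : Over S} [GrpObj G]

theorem map_pow {S' : Scheme.{u}} (r : S' ⟶ S) {T : Over S} (f : T ⟶ G) (n : ℕ) :
    (Over.pullback r).map (f ^ n) = ((Over.pullback r).map f : Red.bc r T ⟶ Red.bc r G) ^ n := by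
  open scoped CategoryTheory.Obj in
  induction n with
  | zero =>
    rw [_root_.pow_zero, _root_.pow_zero]
    exact Functor.map_one (F := Over.pullback r)
  | succ n ih =>
    rw [_root_.pow_succ, _root_.pow_succ, ← ih]
    exact Functor.map_mul (F := Over.pullback r) _ _

theorem etale_powMap [IsCommMonObj G] [Smooth G.hom] [QuasiCompact G.hom] (n : ℕ)
    (hn : ∀ s : S, (n : S.residueField s) ≠ 0) : Etale ((𝟙 G : G ⟶ G) ^ n).left := by
  let f := ((𝟙 G : G ⟶ G) ^ n).left
  have hfg : f ≫ G.hom = G.hom := Over.w _
  haveI : LocallyOfFinitePresentation (f ≫ G.hom) := by rw [hfg]; infer_instance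
  haveI : Flat (f ≫ G.hom) := by rw [hfg]; infer_instance
  refine FlatMisc.etale_of_etale_fibres G.hom f fun s => ?_
  let r := S.fromSpecResidueField s
  haveI : IsCommMonObj (Red.bc r G) := by open scoped CategoryTheory.Obj in infer_instance
  haveI : LocallyOfFiniteType (Red.bc r G).hom := inferInstanceAs (LocallyOfFiniteType (pullback.snd G.hom r))
  haveI : QuasiCompact (Red.bc r G).hom := inferInstanceAs (QuasiCompact (pullback.snd G.hom r))
  have hE : Etale ((Over.pullback r).map ((𝟙 G : G ⟶ G) ^ n)).left := by
    rw [map_pow, CategoryTheory.Functor.map_id]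
    exact Groth.Agent.S4112.result (S.residueField s) (Red.bc r G) n (hn s)
  have hsq : IsPullback (pullback.fst G.hom r) ((Over.pullback r).map ((𝟙 G : G ⟶ G) ^ n)).left f (G.hom.fiberι s) := by
    refine IsPullback.of_bot ?_ (pullback.lift_fst _ _ _).symm (IsPullback.of_hasPullback G.hom r)
    have h2 : ((Over.pullback r).map ((𝟙 G : G ⟶ G) ^ n)).left ≫ pullback.snd G.hom r = pullback.snd G.hom r :=
      pullback.lift_snd _ _ _
    rw [hfg]
    exact h2.symm ▸ IsPullback.of_hasPullback G.hom r
  have e : pullback.snd f (G.hom.fiberι s) = hsq.isoPullback.inv ≫ ((Over.pullback r).map ((𝟙 G : G ⟶ G) ^ n)).left := by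
    exact hsq.isoPullback_inv_snd.symm
  rw [e]
  exact MorphismProperty.comp_mem @Etale _ _ inferInstance hE

end Groth.Agent.NTors
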