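import Groth.Agent.Hensel.StrictSchemes
import Mathlib.AlgebraicGeometry.Morphisms.Etale

/-!
# Points of étale schemes over henselian local rings lift uniquely
-/

set_option autoImplicit false

universe u

open CategoryTheory Limits AlgebraicGeometry IsLocalRing

namespace Groth.Agent.NTors

theorem existsUnique_section (R : Type u) [CommRing R] [HenselianLocalRing R] {X : Scheme.{u}}
    (p : X ⟶ Spec (CommRingCat.of R)) [Etale p] (z : Spec (CommRingCat.of (ResidueField R)) ⟶ X)
    (hz : z ≫ p = Spec.map (CommRingCat.ofHom (residue R))) :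
    ∃! s : Spec (CommRingCat.of R) ⟶ X, s ≫ p = 𝟙 _ ∧ Spec.map (CommRingCat.ofHom (residue R)) ≫ s = z := by
  let r := Spec.map (CommRingCat.ofHom (residue R))
  let pt : Spec (CommRingCat.of (ResidueField R)) := closedPoint (ResidueField R)
  obtain ⟨V, hV, hxV, -⟩ := exists_isAffineOpen_mem_and_subset (x := z pt) (U := (⊤ : X.Opens)) trivial
  have hr : r pt = closedPoint R := IsLocalRing.comap_closedPoint (residue R)
  let g : CommRingCat.of R ⟶ Γ(X, V) := (Scheme.ΓSpecIso (CommRingCat.of R)).inv ≫ p.appLE ⊤ V le_top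
  have hg : Spec.map g = hV.fromSpec ≫ p := by
    rw [Spec.map_comp, ← IsAffineOpen.SpecMap_appLE_fromSpec p (isAffineOpen_top _) hV le_top,
      IsAffineOpen.fromSpec_top, Scheme.isoSpec_Spec_inv]
  have hget : g.hom.Etale := by
    have h1 := HasRingHomProperty.appLE (P := @Etale) p inferInstance ⟨⊤, isAffineOpen_top _⟩ ⟨V, hV⟩ le_top
    rw [CommRingCat.hom_comp]
    exact (RingHom.Etale.respectsIso).2 _
      (Scheme.ΓSpecIso (CommRingCat.of R)).commRingCatIsoToRingEquiv.symm h1
  letI : Algebra R Γ(X, V) := g.hom.toAlgebra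
  haveI : Algebra.Etale R Γ(X, V) := hget
  have hzr : Set.range z ⊆ Set.range hV.fromSpec := by
    rw [hV.range_fromSpec]
    rintro _ ⟨q, rfl⟩
    rw [show q = pt from Subsingleton.elim (α := PrimeSpectrum (ResidueField R)) _ _]
    exact hxV
  let σ := Spec.preimage (IsOpenImmersion.lift hV.fromSpec z hzr)
  have hσ : Spec.map σ ≫ hV.fromSpec = z := by rw [Spec.map_preimage, IsOpenImmersion.lift_fac]
  have hσR : g ≫ σ = CommRingCat.ofHom (residue R) := by
    apply Spec.map_injective
    rw [Spec.map_comp, hg, ← Category.assoc, hσ, hz]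
  let σA : Γ(X, V) →ₐ[R] ResidueField R :=
    { σ.hom with commutes' := fun c => congrArg (fun m : CommRingCat.of R ⟶ CommRingCat.of (ResidueField R) => m c) hσR }
  obtain ⟨τ, hτ, huniq⟩ := Hensel.existsUnique_etale_lift_of_algebra (maximalIdeal R) σA
  refine ⟨Spec.map (CommRingCat.ofHom τ.toRingHom) ≫ hV.fromSpec, ⟨?_, ?_⟩, fun s ⟨hs, hs'⟩ => ?_⟩
  · rw [Category.assoc, ← hg, ← Spec.map_comp]
    exact (congrArg Spec.map (CommRingCat.hom_ext (RingHom.ext fun c => τ.commutes c))).trans (Spec.map_id _)
  · rw [← Category.assoc, ← Spec.map_comp, ← hσ]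
    congr 2
    exact CommRingCat.hom_ext (RingHom.ext fun a => congr($hτ a))
  · have hsr : Set.range s ⊆ Set.range hV.fromSpec := by
      rw [hV.range_fromSpec]
      rintro _ ⟨q, rfl⟩
      refine ((IsLocalRing.specializes_closedPoint q).map s.continuous).mem_open V.2 ?_
      rw [← hr, show s (r pt) = (r ≫ s) pt from rfl, hs']
      exact hxV
    let t := Spec.preimage (IsOpenImmersion.lift hV.fromSpec s hsr)
    have ht : Spec.map t ≫ hV.fromSpec = s := by rw [Spec.map_preimage, IsOpenImmersion.lift_fac]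
    have htR : g ≫ t = 𝟙 _ := by
      apply Spec.map_injective
      rw [Spec.map_comp, hg, ← Category.assoc, ht, hs, Spec.map_id]
    let tA : Γ(X, V) →ₐ[R] R :=
      { t.hom with commutes' := fun c => congrArg (fun m : CommRingCat.of R ⟶ CommRingCat.of R => m c) htR }
    have e : t ≫ CommRingCat.ofHom (residue R) = σ := by
      apply Spec.map_injective
      rw [← cancel_mono hV.fromSpec, Spec.map_comp, Category.assoc, ht, hσ, hs']
    have h1 : tA = τ := huniq tA (AlgHom.ext fun a =>
      congrArg (fun m : Γ(X, V) ⟶ CommRingCat.of (ResidueField R) => m a) e)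
    rw [← ht, ← h1]
    rfl

end Groth.Agent.NTors
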